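import Groth.Agent.SubDescLib.Descend

/-!
Descent of a central subgroup of multiplicative type along a covering with connected geometric fibres.
-/

set_option autoImplicit false
set_option backward.isDefEq.respectTransparency false

noncomputable section

universe u

open CategoryTheory CategoryTheory.Limits MonoidalCategory CartesianMonoidalCategory AlgebraicGeometry
open scoped MonObj

namespace Groth.Agent.SubDesc

theorem exists_grpObj_of_mono {C : Type*} [Category C] [CartesianMonoidalCategory C] {U G : C} [GrpObj G] (j : U ⟶ G)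
    [Mono j] (hm : ∃ m : U ⊗ U ⟶ U, m ≫ j = (fst U U ≫ j) * (snd U U ≫ j))
    (he : ∃ e : 𝟙_ C ⟶ U, e ≫ j = 1) (hn : ∃ n : U ⟶ U, n ≫ j = j⁻¹) :
    ∃ _ : GrpObj U, IsMonHom j := by
  obtain ⟨m, hm⟩ := hm
  obtain ⟨e, he⟩ := he
  obtain ⟨n, hn⟩ := hn
  let I : GrpObj U :=
    { one := e
      mul := m
      one_mul := by
        rw [← cancel_mono j, Category.assoc, hm, MonObj.comp_mul, whiskerRight_fst_assoc, whiskerRight_snd_assoc,
          he, MonObj.comp_one, one_mul, leftUnitor_hom]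
      mul_one := by
        rw [← cancel_mono j, Category.assoc, hm, MonObj.comp_mul, whiskerLeft_fst_assoc, whiskerLeft_snd_assoc,
          he, MonObj.comp_one, mul_one, rightUnitor_hom]
      mul_assoc := by
        rw [← cancel_mono j]
        simp only [Category.assoc, hm, MonObj.comp_mul, whiskerRight_fst_assoc, whiskerRight_snd_assoc,
          whiskerLeft_fst_assoc, whiskerLeft_snd_assoc, associator_hom_fst_assoc, associator_hom_snd_fst_assoc,
          associator_hom_snd_snd_assoc, _root_.mul_assoc]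
      inv := n
      left_inv := by
        rw [← cancel_mono j, Category.assoc, Category.assoc, hm, MonObj.comp_mul, lift_fst_assoc, lift_snd_assoc,
          hn, Category.id_comp, he, MonObj.comp_one, inv_mul_cancel]
      right_inv := by
        rw [← cancel_mono j, Category.assoc, Category.assoc, hm, MonObj.comp_mul, lift_fst_assoc, lift_snd_assoc,
          hn, Category.id_comp, he, MonObj.comp_one, mul_inv_cancel] }
  refine ⟨I, ⟨?_, ?_⟩⟩
  · show e ≫ j = η[G]
    rw [he, Hom.one_def, toUnit_unique (toUnit _) (𝟙 _), Category.id_comp]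
  · show m ≫ j = (j ⊗ₘ j) ≫ μ[G]
    rw [hm, Hom.mul_def]
    congr 1
    exact hom_ext _ _ (by rw [lift_fst, tensorHom_fst]) (by rw [lift_snd, tensorHom_snd])

variable {S S' : Scheme.{u}} (π : S' ⟶ S) [Flat π] [Surjective π]

/-- Factoring through an immersion descends. -/
theorem factor {U G Y : Over S} (j : U ⟶ G) [IsImmersion j.left] (y : Y ⟶ G) (v : Red.bc π Y ⟶ Red.bc π U)
    (hv : v ≫ (Over.pullback π).map j = (Over.pullback π).map y) : ∃ h : Y ⟶ U, h ≫ j = y := by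
  let z : pullback j.left y.left ⟶ Y.left := pullback.snd _ _
  haveI : IsImmersion z := inferInstanceAs (IsImmersion (pullback.snd j.left y.left))
  have hcond : (v.left ≫ pullback.fst U.hom π) ≫ j.left = pullback.fst Y.hom π ≫ y.left := by
    rw [← ActBC.pullback_map_left_fst π y, ← hv, Over.comp_left, Category.assoc, Category.assoc,
      ActBC.pullback_map_left_fst]
  haveI : IsIso z := MultLift.isIso_of_factor z (pullback.fst Y.hom π) (pullback.lift _ _ hcond)
    (pullback.lift_snd _ _ _)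
  have h1 : (inv z ≫ pullback.fst j.left y.left) ≫ j.left = y.left := by
    rw [Category.assoc, pullback.condition, show pullback.snd j.left y.left = z from rfl, IsIso.inv_hom_id_assoc]
  refine ⟨Over.homMk (inv z ≫ pullback.fst _ _) ?_, Over.OverMorphism.ext h1⟩
  exact ((congrArg (_ ≫ ·) (Over.w j)).symm.trans (Category.assoc _ _ _).symm).trans
    ((congrArg (· ≫ G.hom) h1).trans (Over.w _))

theorem hcov_comp {S'' : Scheme.{u}} (f : S'' ⟶ S')
    (hf : ∀ V : S'.Opens, IsAffineOpen V → ∃ W : S''.Opens, IsCompact (W : Set S'') ∧ f.base '' (W : Set S'') = (V : Set S'))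
    (hcov : ∀ V : S.Opens, IsAffineOpen V → ∃ W : S'.Opens, IsCompact (W : Set S') ∧ π.base '' (W : Set S') = (V : Set S))
    (V : S.Opens) (hV : IsAffineOpen V) :
    ∃ W : S''.Opens, IsCompact (W : Set S'') ∧ (f ≫ π).base '' (W : Set S'') = (V : Set S) := by
  obtain ⟨W, hW, hWV⟩ := hcov V hV
  obtain ⟨s, hs, hWs⟩ := (isCompact_and_isOpen_iff_finite_and_eq_biUnion_affineOpens (X := S')).1 ⟨hW, W.isOpen⟩
  choose W' hW' hW'V using fun A : S'.affineOpens => hf A A.2
  refine ⟨⨆ A ∈ s, W' A, ?_, ?_⟩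
  · simp only [TopologicalSpace.Opens.coe_iSup]
    exact hs.isCompact_biUnion fun A _ => hW' A
  · rw [← hWV, hWs]
    simp only [TopologicalSpace.Opens.coe_iSup, Set.image_iUnion]
    refine Set.iUnion₂_congr fun A _ => ?_
    rw [← hW'V, Set.image_image]
    rfl

variable {G : Over S} [GrpObj G] {H' : Over S'} [GrpObj H'] (j' : H' ⟶ Red.bc π G) [IsMonHom j'] [IsImmersion j'.left]
  [IsSeparated G.hom] [LocallyOfFinitePresentation G.hom]

/-- Central subgroups of multiplicative type descend. -/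
theorem exists_subgroup
    (hcov : ∀ V : S.Opens, IsAffineOpen V → ∃ W : S'.Opens, IsCompact (W : Set S') ∧ π.base '' (W : Set S') = (V : Set S))
    (hH' : SGA3x.IsMultTypeFT H') (hc : MultLift.Central j')
    (hconn : ∀ s : S, ConnectedSpace ↥(pullback π (Red.geomPt s))) :
    ∃ (H : Over S) (_ : GrpObj H) (j : H ⟶ G), IsMonHom j ∧ IsImmersion j.left ∧ SGA3x.IsMultTypeFT H ∧
      ∃ φ : Red.bc π H ≅ H', φ.hom ≫ j' = (Over.pullback π).map j := by
  obtain ⟨U, j, θ, himm, hθ⟩ := exists_descend π j' hcov hH' hc hconn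
  haveI := himm
  haveI : Mono j := Over.mono_of_mono_left j
  haveI : Mono j' := Over.mono_of_mono_left j'
  let F := Over.pullback π
  have hback : ∀ {Y : Over S} (y : Y ⟶ G), (∃ a : Red.bc π Y ⟶ H', a ≫ j' = F.map y) → ∃ h : Y ⟶ U, h ≫ j = y :=
    fun y ⟨a, ha⟩ => factor π j y (a ≫ θ.inv) (by rw [← hθ, Category.assoc, Iso.inv_hom_id_assoc, ha])
  have hpt : ∀ {Y : Over S} (a : Y ⟶ U), F.map (a ≫ j) = (F.map a ≫ θ.hom) ≫ j' := fun a => by
    rw [F.map_comp, Category.assoc, hθ]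
  have hmap1 : ∀ {Y : Over S}, F.map (1 : Y ⟶ G) = (1 : Red.bc π Y ⟶ Red.bc π G) := fun {Y} => by
    have h := Functor.map_mul F (1 : Y ⟶ G) 1
    rw [one_mul] at h
    exact left_eq_mul.1 h
  have hm := hback ((fst U U ≫ j) * (snd U U ≫ j))
    ⟨(F.map (fst U U) ≫ θ.hom) * (F.map (snd U U) ≫ θ.hom), by
      rw [MonObj.mul_comp, ← hpt, ← hpt]; exact (Functor.map_mul F _ _).symm⟩
  have he := hback (1 : 𝟙_ (Over S) ⟶ G) ⟨1, by rw [MonObj.one_comp, hmap1]⟩
  have hn := hback j⁻¹ ⟨θ.hom⁻¹, by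
    rw [GrpObj.inv_comp, hθ]
    refine inv_eq_of_mul_eq_one_left ?_
    exact (Functor.map_mul F j⁻¹ j).symm.trans ((congrArg F.map (inv_mul_cancel j)).trans hmap1)⟩
  obtain ⟨I, hj⟩ := exists_grpObj_of_mono j hm he hn
  letI := I
  haveI := hj
  refine ⟨U, I, j, hj, himm, ?_, θ, hθ⟩
  haveI : IsMonHom (M := Red.bc π U) (N := Red.bc π G) (F.map j) := DiagRep.isMonHom_bc_map π j
  haveI : IsMonHom (M := Red.bc π U) (N := Red.bc π G) (θ.hom ≫ j') := by rw [hθ]; infer_instance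
  haveI : IsMonHom θ.hom := DiagRep.isMonHom_of_comp_mono θ.hom j'
  obtain ⟨S'', f, hflat, hsurj, hcovf, hloc⟩ := hH'
  haveI := hflat
  haveI := hsurj
  refine ⟨S'', f ≫ π, inferInstance, inferInstance, hcov_comp π f hcovf hcov, fun z => ?_⟩
  obtain ⟨V, hzV, M, hM, hfg, ⟨e⟩⟩ := hloc z
  let g := V.ι ≫ f
  let e₁ : Red.bc g H' ≅ Red.DS (V : Scheme.{u}) M := (Grp.forget _).mapIso e
  haveI : IsMonHom e₁.hom := e.hom.hom.isMonHom_hom
  let b : Red.bc g (Red.bc π U) ≅ Red.bc (V.ι ≫ f ≫ π) U := ActBC.bcCompIso g π U (Category.assoc _ _ _)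
  haveI : IsMonHom b.hom := ActBC.bcCompIso_isMonHom _ _ _
  haveI : IsMonHom b.inv := inferInstance
  haveI : IsMonHom (M := Red.bc g (Red.bc π U)) (N := Red.bc g H') ((Over.pullback g).map θ.hom) :=
    DiagRep.isMonHom_bc_map g θ.hom
  let w : Red.bc (V.ι ≫ f ≫ π) U ≅ Red.DS (V : Scheme.{u}) M := b.symm ≪≫ (Over.pullback g).mapIso θ ≪≫ e₁
  haveI : IsMonHom w.hom := by
    show IsMonHom (b.inv ≫ (Over.pullback g).map θ.hom ≫ e₁.hom)
    infer_instance
  exact ⟨V, hzV, M, hM, hfg, ⟨Grp.mkIso' w⟩⟩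

omit [GrpObj H'] [IsMonHom j'] [IsImmersion j'.left] [IsSeparated G.hom] [LocallyOfFinitePresentation G.hom] [GrpObj G] in
/-- Two subobjects with the same base change coincide. -/
theorem iso_of_bc {H₁ H₂ : Over S} (j₁ : H₁ ⟶ G) (j₂ : H₂ ⟶ G) [IsImmersion j₁.left] [IsImmersion j₂.left]
    (h₁ : ∃ φ₁ : Red.bc π H₁ ≅ H', φ₁.hom ≫ j' = (Over.pullback π).map j₁)
    (h₂ : ∃ φ₂ : Red.bc π H₂ ≅ H', φ₂.hom ≫ j' = (Over.pullback π).map j₂) :
    ∃ ψ : H₁ ≅ H₂, ψ.hom ≫ j₂ = j₁ := by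
  obtain ⟨φ₁, e₁⟩ := h₁
  obtain ⟨φ₂, e₂⟩ := h₂
  obtain ⟨a, ha⟩ := factor π j₂ j₁ (φ₁.hom ≫ φ₂.inv) (by rw [← e₁, ← e₂, Category.assoc, Iso.inv_hom_id_assoc])
  obtain ⟨b, hb⟩ := factor π j₁ j₂ (φ₂.hom ≫ φ₁.inv) (by rw [← e₁, ← e₂, Category.assoc, Iso.inv_hom_id_assoc])
  haveI : Mono j₁ := Over.mono_of_mono_left j₁
  haveI : Mono j₂ := Over.mono_of_mono_left j₂
  exact ⟨⟨a, b, by rw [← cancel_mono j₁, Category.assoc, hb, ha, Category.id_comp],
    by rw [← cancel_mono j₂, Category.assoc, ha, hb, Category.id_comp]⟩, ha⟩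

end Groth.Agent.SubDesc
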