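import Groth.Agent.DescLib.Fpqc
import Groth.Agent.AlgSpLib.FpqcMore
import Groth.Agent.FFDescLib.Closure

/-!
Properties of morphisms descending along fpqc coverings; immersions among them.
-/

set_option autoImplicit false

noncomputable section

universe u

open CategoryTheory CategoryTheory.Limits AlgebraicGeometry

namespace Groth.Agent.SubDesc

theorem prop_of_fpqc (P : MorphismProperty Scheme.{u}) [IsZariskiLocalAtTarget P] [P.IsStableUnderBaseChange]
    [P.DescendsAlong (@Surjective ⊓ @Flat ⊓ @QuasiCompact)]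
    {X Y S : Scheme.{u}} (p : X ⟶ S) [DescLib.Fpqc p] (f : Y ⟶ S) (h : P (pullback.snd f p)) : P f := by
  refine (IsZariskiLocalAtTarget.iff_of_iSup_eq_top (fun V : S.affineOpens => (V : S.Opens))
    (iSup_affineOpens_eq_top S)).2 fun V => ?_
  obtain ⟨m, a, W, o, b, -, -, hb, hA, hfl, hsurj, hqc⟩ :=
    DescLib.exists_affine_refinement (DescLib.Fpqc.memOfArrows p) V.2
  haveI := hA
  haveI := hfl
  haveI := hsurj
  let q : (∐ W) ⟶ X := Limits.Sigma.desc o
  have hq : Limits.Sigma.desc b ≫ (V : S.Opens).ι = q ≫ p := Sigma.hom_ext _ _ fun k => by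
    simp only [q, Sigma.ι_desc_assoc]
    exact (hb k).symm
  haveI : IsAffine ((V : S.Opens) : Scheme.{u}) := V.2
  haveI : QuasiCompact (Limits.Sigma.desc b) := inferInstance
  refine MorphismProperty.of_pullback_snd_of_descendsAlong (P := P)
    (Q := @Surjective ⊓ @Flat ⊓ @QuasiCompact) (f := f ∣_ (V : S.Opens)) (g := Limits.Sigma.desc b)
    ⟨⟨inferInstance, inferInstance⟩, inferInstance⟩ ?_
  have sq : IsPullback (pullback.fst (f ∣_ (V : S.Opens)) (Limits.Sigma.desc b) ≫ (f ⁻¹ᵁ (V : S.Opens)).ι)
      (pullback.snd (f ∣_ (V : S.Opens)) (Limits.Sigma.desc b)) f (q ≫ p) := by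
    rw [← hq]
    exact (IsPullback.of_hasPullback _ _).paste_horiz (isPullback_morphismRestrict _ _).flip
  rw [← sq.isoPullback_hom_snd, P.cancel_left_of_respectsIso, ← (Iso.inv_comp_eq _).2
    (pullbackLeftPullbackSndIso_hom_snd f p q).symm, P.cancel_left_of_respectsIso]
  exact MorphismProperty.pullback_snd _ _ h

theorem preimage_closure_range {X G G' : Scheme.{u}} (f : X ⟶ G) [QuasiCompact f] (g : G' ⟶ G) [Flat g] :
    g ⁻¹' closure (Set.range f) = closure (g ⁻¹' Set.range f) := by
  refine subset_antisymm (fun y hy => ?_) (g.continuous.closure_preimage_subset _)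
  obtain ⟨x, hx⟩ := FFDescLib.exists_specializes_of_mem_closure_range f hy
  obtain ⟨z, hz, hzx⟩ := Flat.generalizingMap g hx
  exact hz.mem_closed isClosed_closure (subset_closure ⟨x, hzx.symm⟩)

/-- A quasi-compact morphism is an immersion if it becomes one after an fpqc covering. -/
theorem isImmersion_of_fpqc {X G G' : Scheme.{u}} (f : X ⟶ G) [QuasiCompact f] (g : G' ⟶ G) [DescLib.Fpqc g]
    [IsImmersion (pullback.snd f g)] : IsImmersion f := by
  have hrange : Set.range (pullback.snd f g) = g ⁻¹' Set.range f := Scheme.Pullback.range_snd f g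
  have hopen : IsOpen (coborder (Set.range f)) := by
    refine DescLib.isOpen_of_isOpen_preimage g ?_
    have e : g ⁻¹' coborder (Set.range f) = coborder (g ⁻¹' Set.range f) := by
      rw [coborder, coborder, Set.preimage_compl, Set.preimage_sdiff, preimage_closure_range]
    rw [e, ← hrange]
    exact (pullback.snd f g).isLocallyClosed_range.isOpen_coborder
  let U : G.Opens := ⟨coborder (Set.range f), hopen⟩
  have hsub : Set.range f ⊆ Set.range U.ι := by rw [U.range_ι]; exact subset_coborder
  let f₀ := IsOpenImmersion.lift U.ι f hsub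
  have hfac : f₀ ≫ U.ι = f := IsOpenImmersion.lift_fac _ _ _
  haveI : DescLib.Fpqc (pullback.fst U.ι g) := inferInstance
  have hcl : IsClosedImmersion (pullback.snd f₀ (pullback.fst U.ι g)) := by
    have sq : IsPullback (pullback.fst f₀ (pullback.fst U.ι g))
        (pullback.snd f₀ (pullback.fst U.ι g) ≫ pullback.snd U.ι g) f g := by
      have := (IsPullback.of_hasPullback f₀ (pullback.fst U.ι g)).paste_vert (IsPullback.of_hasPullback U.ι g)
      rwa [hfac] at this
    haveI : IsImmersion (pullback.snd f₀ (pullback.fst U.ι g) ≫ pullback.snd U.ι g) := by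
      rw [← sq.isoPullback_hom_snd]
      infer_instance
    haveI : IsImmersion (pullback.snd f₀ (pullback.fst U.ι g)) :=
      IsImmersion.of_comp _ (pullback.snd U.ι g)
    refine IsClosedImmersion.of_isPreimmersion _ ?_
    rw [Scheme.Pullback.range_snd]
    refine IsClosed.preimage (pullback.fst U.ι g).continuous ?_
    have hr : Set.range f₀ = U.ι ⁻¹' Set.range f := by
      ext x
      constructor
      · rintro ⟨y, rfl⟩
        exact ⟨y, by rw [← Scheme.Hom.comp_apply, hfac]⟩
      · rintro ⟨y, hy⟩
        refine ⟨y, U.ι.isOpenEmbedding.injective ?_⟩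
        rw [← Scheme.Hom.comp_apply, hfac, hy]
    rw [hr]
    exact isClosed_preimage_val_coborder
  haveI : IsClosedImmersion f₀ := prop_of_fpqc @IsClosedImmersion (pullback.fst U.ι g) f₀ hcl
  rw [← hfac]
  infer_instance

end Groth.Agent.SubDesc
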