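import Groth.Agent.SubDescLib.Swap
import Groth.Agent.SubDescLib.Fpqc
import Groth.Agent.DescLib.Main

/-!
Descent of the scheme underlying the subgroup.
-/

set_option autoImplicit false
set_option backward.isDefEq.respectTransparency false

noncomputable section

universe u

open CategoryTheory CategoryTheory.Limits MonoidalCategory CartesianMonoidalCategory AlgebraicGeometry
open scoped MonObj

namespace Groth.Agent.SubDesc

variable {S S' : Scheme.{u}} (π : S' ⟶ S)

theorem quasiCompact_of_bc [Surjective π]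
    (hcov : ∀ V : S.Opens, IsAffineOpen V → ∃ W : S'.Opens, IsCompact (W : Set S') ∧ π.base '' (W : Set S') = (V : Set S))
    {U : Scheme.{u}} (f : U ⟶ S) [QuasiCompact (pullback.snd f π)] : QuasiCompact f := by
  refine quasiCompact_iff_forall_isAffineOpen.2 fun V hV => ?_
  obtain ⟨W, hW, hWV⟩ := hcov V hV
  have e : pullback.fst f π '' (pullback.snd f π ⁻¹' (W : Set S')) = f ⁻¹' (V : Set S) := by
    ext x
    constructor
    · rintro ⟨z, hz, rfl⟩
      show f (pullback.fst f π z) ∈ (V : Set S)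
      rw [← Scheme.Hom.comp_apply, pullback.condition, Scheme.Hom.comp_apply, ← hWV]
      exact ⟨_, hz, rfl⟩
    · intro hx
      obtain ⟨w, hw, hwx⟩ : f x ∈ π.base '' (W : Set S') := by rw [hWV]; exact hx
      obtain ⟨z, hz₁, hz₂⟩ := Scheme.Pullback.exists_preimage_pullback (f := f) (g := π) x w hwx.symm
      exact ⟨z, by show pullback.snd f π z ∈ (W : Set S'); rw [hz₂]; exact hw, hz₁⟩
  show IsCompact (f ⁻¹' (V : Set S))
  rw [← e]
  exact ((pullback.snd f π).isCompact_preimage hW).image (pullback.fst f π).continuous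

variable {G : Over S} [GrpObj G] {H' : Over S'} [GrpObj H'] (j' : H' ⟶ Red.bc π G) [IsMonHom j'] [IsImmersion j'.left]
  [IsSeparated G.hom] [LocallyOfFinitePresentation G.hom]

omit [IsMonHom j'] [GrpObj H'] [IsSeparated G.hom] [LocallyOfFinitePresentation G.hom] [GrpObj G] in
theorem lift_ext {T : Scheme.{u}} (v w : T ⟶ H'.left) (h₁ : v ≫ H'.hom = w ≫ H'.hom)
    (h₂ : v ≫ j'.left ≫ pullback.fst G.hom π = w ≫ j'.left ≫ pullback.fst G.hom π) : v = w := by
  rw [← cancel_mono j'.left]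
  refine pullback.hom_ext (by rw [Category.assoc, Category.assoc, h₂]) ?_
  have e : j'.left ≫ pullback.snd G.hom π = H'.hom := Over.w j'
  exact (Category.assoc _ _ _).trans (((congrArg (v ≫ ·) e).trans (h₁.trans (congrArg (w ≫ ·) e).symm)).trans
    (Category.assoc _ _ _).symm)

/-- The subgroup descends to a subscheme of the group. -/
theorem exists_descend [Flat π] [Surjective π]
    (hcov : ∀ V : S.Opens, IsAffineOpen V → ∃ W : S'.Opens, IsCompact (W : Set S') ∧ π.base '' (W : Set S') = (V : Set S))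
    (hH' : SGA3x.IsMultTypeFT H') (hc : MultLift.Central j')
    (hconn : ∀ s : S, ConnectedSpace ↥(pullback π (Red.geomPt s))) :
    ∃ (U : Over S) (j : U ⟶ G) (θ : Red.bc π U ≅ H'), IsImmersion j.left ∧
      θ.hom ≫ j' = (Over.pullback π).map j := by
  haveI hfp : DescLib.Fpqc π := ⟨DescHom.singleton_mem_fpqc π hcov⟩
  have hsw := fun {T : Scheme.{u}} (x₀ x₁ : T ⟶ S') (hx : x₀ ≫ π = x₁ ≫ π) (v : Desc.Lifts H' x₀) =>
    swap π j' hH' hc hconn x₀ x₁ hx v.1 v.2
  choose sw hsw₁ hsw₂ using @hsw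
  let mp : ∀ {T : Scheme.{u}} (x₀ x₁ : T ⟶ S'), x₀ ≫ π = x₁ ≫ π → Desc.Lifts H' x₀ → Desc.Lifts H' x₁ :=
    fun x₀ x₁ h v => ⟨sw x₀ x₁ h v, hsw₁ x₀ x₁ h v⟩
  have hext : ∀ {T : Scheme.{u}} {x : T ⟶ S'} (v w : Desc.Lifts H' x),
      v.1 ≫ j'.left ≫ pullback.fst G.hom π = w.1 ≫ j'.left ≫ pullback.fst G.hom π → v = w :=
    fun v w h => Subtype.ext (lift_ext π j' v.1 w.1 (v.2.trans w.2.symm) h)
  let D : Desc.SchDD π :=
    { obj := H'
      φ := fun T x₀ x₁ h =>
        { toFun := mp x₀ x₁ h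
          invFun := mp x₁ x₀ h.symm
          left_inv := fun v => hext _ _ ((hsw₂ _ _ _ _).trans (hsw₂ _ _ _ _))
          right_inv := fun v => hext _ _ ((hsw₂ _ _ _ _).trans (hsw₂ _ _ _ _)) }
      φ_natural := fun T T' g x₀ x₁ h h' v v' hv' => by
        refine lift_ext π j' _ _ ?_ ?_
        · show sw _ _ h' v' ≫ H'.hom = (g ≫ sw x₀ x₁ h v) ≫ H'.hom
          rw [hsw₁, Category.assoc, hsw₁]
        · show sw _ _ h' v' ≫ _ = (g ≫ sw x₀ x₁ h v) ≫ _
          rw [hsw₂, Category.assoc, hsw₂, hv', Category.assoc]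
      φ_self := fun T x v => hext _ _ (hsw₂ _ _ _ _)
      φ_comp := fun T x₀ x₁ x₂ h₀₁ h₁₂ v =>
        hext _ _ (((hsw₂ _ _ _ _).trans (hsw₂ _ _ _ _)).trans (hsw₂ _ _ _ _).symm) }
  haveI : IsAffineHom D.obj.hom := MultEq.isAffineHom_of_isMultTypeFT hH'
  obtain ⟨U, ⟨e⟩⟩ := DescLib.effective_of_isAffineHom (p := π) D
  let el : pullback π U.hom ⟶ H'.left := e.hom.hom.left
  let e' : pullback π U.hom ≅ H'.left := ⟨el, e.inv.hom.left,
    congrArg (fun z => z.hom.left) e.hom_inv_id, congrArg (fun z => z.hom.left) e.inv_hom_id⟩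
  have hel : el ≫ H'.hom = pullback.fst π U.hom := Over.w e.hom.hom
  let θ : Red.bc π U ≅ H' := Over.isoMk (pullbackSymmetry U.hom π ≪≫ e') (by
    show ((pullbackSymmetry U.hom π).hom ≫ el) ≫ H'.hom = pullback.snd U.hom π
    rw [Category.assoc, hel, pullbackSymmetry_hom_comp_fst])
  let a : pullback U.hom π ⟶ H'.left := θ.hom.left
  have ha : a = (pullbackSymmetry U.hom π).hom ≫ el := rfl
  have haH : a ≫ H'.hom = pullback.snd U.hom π := Over.w θ.hom
  let f : pullback U.hom π ⟶ G.left := a ≫ j'.left ≫ pullback.fst G.hom π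
  let p₁ : pullback U.hom π ⟶ U.left := pullback.fst U.hom π
  haveI : EffectiveEpi p₁ := DescHom.effectiveEpi_pullback_fst π hcov U.hom
  have hf : ∀ {Z : Scheme.{u}} (g₁ g₂ : Z ⟶ pullback U.hom π), g₁ ≫ p₁ = g₂ ≫ p₁ → g₁ ≫ f = g₂ ≫ f := by
    intro Z g₁ g₂ hg
    let s := (pullbackSymmetry U.hom π).hom
    let x₁ := g₁ ≫ pullback.snd U.hom π
    let x₂ := g₂ ≫ pullback.snd U.hom π
    have hx : x₁ ≫ π = x₂ ≫ π := by
      have := congrArg (· ≫ U.hom) hg
      simp only [p₁, Category.assoc, pullback.condition] at this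
      simpa only [x₁, x₂, Category.assoc] using this
    let v : Desc.Lifts ((Desc.toDD π).obj U).obj x₁ := ⟨g₁ ≫ s, by
      show (g₁ ≫ s) ≫ pullback.fst π U.hom = x₁
      rw [Category.assoc, pullbackSymmetry_hom_comp_fst]⟩
    let w : Desc.Lifts D.obj x₁ := ⟨g₁ ≫ a, by
      show (g₁ ≫ a) ≫ H'.hom = x₁
      rw [Category.assoc, haH]⟩
    have h1 : sw x₁ x₂ hx w = (((Desc.toDD π).obj U).φ x₁ x₂ hx v).1 ≫ el :=
      e.hom.comm x₁ x₂ hx v w (by show g₁ ≫ a = (g₁ ≫ s) ≫ el; rw [ha, Category.assoc])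
    have h2 : (((Desc.toDD π).obj U).φ x₁ x₂ hx v).1 = g₂ ≫ s := by
      refine pullback.hom_ext ?_ ?_
      · refine (pullback.lift_fst _ _ _).trans ?_
        rw [Category.assoc, pullbackSymmetry_hom_comp_fst]
      · refine (pullback.lift_snd _ _ _).trans ?_
        show (g₁ ≫ s) ≫ pullback.snd π U.hom = _
        rw [Category.assoc, Category.assoc, pullbackSymmetry_hom_comp_snd]
        exact hg
    have h3 := hsw₂ x₁ x₂ hx w
    rw [h1, h2] at h3
    show g₁ ≫ a ≫ _ = g₂ ≫ a ≫ _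
    rw [← Category.assoc g₁, ← h3, ha, Category.assoc, Category.assoc, Category.assoc]
  let jl : U.left ⟶ G.left := EffectiveEpi.desc p₁ f hf
  have hjl : p₁ ≫ jl = f := EffectiveEpi.fac p₁ f hf
  have hwj : p₁ ≫ jl ≫ G.hom = p₁ ≫ U.hom := by
    rw [← Category.assoc, hjl, Category.assoc, Category.assoc]
    show a ≫ j'.left ≫ pullback.fst G.hom π ≫ G.hom = pullback.fst U.hom π ≫ U.hom
    rw [pullback.condition, pullback.condition]
    have e₁ : j'.left ≫ pullback.snd G.hom π = H'.hom := Over.w j'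
    rw [reassoc_of% e₁, reassoc_of% haH]
  let j : U ⟶ G := Over.homMk jl ((cancel_epi p₁).1 hwj)
  have hθ : θ.hom ≫ j' = (Over.pullback π).map j := by
    refine Over.OverMorphism.ext (pullback.hom_ext ?_ ?_)
    · rw [ActBC.pullback_map_left_fst, Over.comp_left, Category.assoc]
      exact hjl.symm
    · exact (Over.w (θ.hom ≫ j')).trans (Over.w ((Over.pullback π).map j)).symm
  refine ⟨U, j, θ, ?_, hθ⟩
  haveI : IsIso θ.hom.left := inferInstanceAs (IsIso ((Over.forget S').map θ.hom))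
  haveI : QuasiCompact (pullback.snd U.hom π) := by
    haveI : QuasiCompact H'.hom := by
      haveI := MultEq.isAffineHom_of_isMultTypeFT hH'
      infer_instance
    rw [show pullback.snd U.hom π = θ.hom.left ≫ H'.hom from (Over.w θ.hom).symm]
    infer_instance
  haveI : QuasiCompact j.left := by
    haveI : QuasiCompact (j.left ≫ G.hom) := by
      rw [Over.w j]
      exact quasiCompact_of_bc π hcov U.hom
    exact QuasiCompact.of_comp j.left G.hom
  have sq := isPullback_map_left π j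
  haveI : IsImmersion ((Over.pullback π).map j).left := by
    rw [← hθ, Over.comp_left]
    infer_instance
  haveI : IsImmersion (pullback.snd j.left (pullback.fst G.hom π)) := by
    rw [show pullback.snd j.left (pullback.fst G.hom π) = sq.isoPullback.inv ≫ ((Over.pullback π).map j).left from
      sq.isoPullback_inv_snd.symm]
    infer_instance
  haveI : DescLib.Fpqc (pullback.fst G.hom π) := inferInstance
  exact isImmersion_of_fpqc j.left (pullback.fst G.hom π)

end Groth.Agent.SubDesc
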