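import Groth.Agent.SubDescLib.Diag
import Groth.Agent.MultEqLib.Global

/-!
The two pullbacks of a central subgroup of multiplicative type to the double covering coincide when the geometric
fibres of the covering are connected.
-/

set_option autoImplicit false
set_option backward.isDefEq.respectTransparency false

noncomputable section

universe u

open CategoryTheory CategoryTheory.Limits MonoidalCategory CartesianMonoidalCategory AlgebraicGeometry
open scoped MonObj

namespace Groth.Agent.SubDesc

variable {S S' : Scheme.{u}}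

/-- The base change of a morphism over `S` is a base change of the morphism. -/
theorem isPullback_map_left (q : S' ⟶ S) {X Y : Over S} (k : X ⟶ Y) :
    IsPullback (pullback.fst X.hom q) ((Over.pullback q).map k).left k.left (pullback.fst Y.hom q) := by
  refine IsPullback.of_bot ?_ (ActBC.pullback_map_left_fst q k).symm (IsPullback.of_hasPullback Y.hom q)
  have h1 : ((Over.pullback q).map k).left ≫ pullback.snd Y.hom q = pullback.snd X.hom q := Over.w _
  rw [h1, Over.w k]
  exact IsPullback.of_hasPullback X.hom q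

theorem isImmersion_map_left (q : S' ⟶ S) {X Y : Over S} (k : X ⟶ Y) [IsImmersion k.left] :
    IsImmersion ((Over.pullback q).map k).left :=
  MorphismProperty.of_isPullback (P := @IsImmersion) (isPullback_map_left q k) ‹_›

variable {G : Over S} [GrpObj G] (π : S' ⟶ S) {H' : Over S'} [GrpObj H'] (j' : H' ⟶ Red.bc π G)

/-- The transport of the subgroup to a scheme over the double covering. -/
def iP {P : Scheme.{u}} (q : P ⟶ S') (p : P ⟶ S) (h : q ≫ π = p) : Red.bc q H' ⟶ Red.bc p G :=
  (Over.pullback q).map j' ≫ (ActBC.bcCompIso q π G h).hom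

theorem isMonHom_iP [IsMonHom j'] {P : Scheme.{u}} (q : P ⟶ S') (p : P ⟶ S) (h : q ≫ π = p) :
    IsMonHom (iP π j' q p h) := by
  haveI : IsMonHom (ActBC.bcCompIso q π G h).hom := ActBC.bcCompIso_isMonHom _ _ _
  haveI : IsMonHom (M := Red.bc q H') (N := Red.bc q (Red.bc π G)) ((Over.pullback q).map j') :=
    DiagRep.isMonHom_bc_map q j'
  unfold iP
  infer_instance

theorem isImmersion_iP [IsImmersion j'.left] {P : Scheme.{u}} (q : P ⟶ S') (p : P ⟶ S) (h : q ≫ π = p) :
    IsImmersion (iP π j' q p h).left := by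
  haveI : IsImmersion ((Over.pullback q).map j').left := isImmersion_map_left q j'
  haveI : IsIso (ActBC.bcCompIso q π G h).hom.left :=
    inferInstanceAs (IsIso ((Over.forget P).map (ActBC.bcCompIso q π G h).hom))
  show IsImmersion (((Over.pullback q).map j').left ≫ (ActBC.bcCompIso q π G h).hom.left)
  infer_instance

theorem central_iP (hc : MultLift.Central j') {P : Scheme.{u}} (q : P ⟶ S') (p : P ⟶ S) (h : q ≫ π = p) :
    MultLift.Central (iP π j' q p h) := by
  have h1 : MultLift.Central (H := Red.bc q H') (G := Red.bc q (Red.bc π G)) ((Over.pullback q).map j') :=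
    MultLift.central_bc q hc
  intro X g y
  haveI : IsMonHom (ActBC.bcCompIso q π G h).hom := ActBC.bcCompIso_isMonHom _ _ _
  obtain ⟨g₀, rfl⟩ : ∃ g₀, g₀ ≫ (ActBC.bcCompIso q π G h).hom = g :=
    ⟨g ≫ (ActBC.bcCompIso q π G h).inv, by rw [Category.assoc, Iso.inv_hom_id, Category.comp_id]⟩
  have h2 := congrArg (· ≫ (ActBC.bcCompIso q π G h).hom) (h1 X g₀ y)
  simp only [MonObj.mul_comp, Category.assoc] at h2
  exact h2

/-- The formula for the transport. -/
theorem iP_fst {P : Scheme.{u}} (q : P ⟶ S') (p : P ⟶ S) (h : q ≫ π = p) :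
    (iP π j' q p h).left ≫ pullback.fst G.hom p = pullback.fst H'.hom q ≫ j'.left ≫ pullback.fst G.hom π := by
  rw [iP, Over.comp_left, Category.assoc, ActBC.bcCompIso_hom_left_fst, ← Category.assoc,
    ActBC.pullback_map_left_fst, Category.assoc]

/-- Over a point with equal projections the two transports agree. -/
theorem le_of_eq {P T : Scheme.{u}} (q₀ q₁ : P ⟶ S') (p : P ⟶ S) (h₀ : q₀ ≫ π = p) (h₁ : q₁ ≫ π = p) (κ : T ⟶ P)
    (hκ : κ ≫ q₀ = κ ≫ q₁) : MultEq.LE (iP π j' q₀ p h₀) (iP π j' q₁ p h₁) κ := by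
  intro Y q hq y
  have hy : y.left ≫ pullback.snd H'.hom q₀ = q ≫ κ := (Over.w y).trans hq.symm
  let z : Y.left ⟶ pullback H'.hom q₁ := pullback.lift (y.left ≫ pullback.fst H'.hom q₀) Y.hom (by
    rw [Category.assoc, pullback.condition, reassoc_of% hy, hκ, reassoc_of% hq])
  refine ⟨Over.homMk z (pullback.lift_snd _ _ _), Over.OverMorphism.ext (pullback.hom_ext ?_ ?_)⟩
  · show (z ≫ (iP π j' q₁ p h₁).left) ≫ pullback.fst G.hom p = (y.left ≫ (iP π j' q₀ p h₀).left) ≫ pullback.fst G.hom p
    refine (Category.assoc _ _ _).trans (((congrArg (z ≫ ·) (iP_fst π j' q₁ p h₁)).trans ?_).trans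
      ((congrArg (y.left ≫ ·) (iP_fst π j' q₀ p h₀)).symm.trans (Category.assoc _ _ _).symm))
    show z ≫ _ = y.left ≫ _
    rw [pullback.lift_fst_assoc, Category.assoc]
  · exact (Over.w (Over.homMk z (pullback.lift_snd _ _ _) ≫ iP π j' q₁ p h₁)).trans
      (Over.w (y ≫ iP π j' q₀ p h₀)).symm

variable [IsSeparated G.hom] [LocallyOfFinitePresentation G.hom] [IsMonHom j'] [IsImmersion j'.left]

/-- The two transports to the double covering coincide. -/
theorem le_double (hH' : SGA3x.IsMultTypeFT H') (hc : MultLift.Central j')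
    (hconn : ∀ s : S, ConnectedSpace ↥(pullback π (Red.geomPt s))) :
    MultEq.LE (iP π j' (pullback.fst π π) (pullback.fst π π ≫ π) rfl)
      (iP π j' (pullback.snd π π) (pullback.fst π π ≫ π) pullback.condition.symm) (𝟙 _) := by
  let P := pullback π π
  let p : P ⟶ S := pullback.fst π π ≫ π
  let i₀ := iP π j' (pullback.fst π π) p rfl
  let i₁ := iP π j' (pullback.snd π π) p pullback.condition.symm
  haveI : IsMonHom i₀ := isMonHom_iP π j' _ _ _
  haveI : IsMonHom i₁ := isMonHom_iP π j' _ _ _
  haveI : IsImmersion i₀.left := isImmersion_iP π j' _ _ _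
  haveI : IsImmersion i₁.left := isImmersion_iP π j' _ _ _
  haveI : Mono i₀ := Over.mono_of_mono_left i₀
  haveI : Mono i₁ := Over.mono_of_mono_left i₁
  haveI : IsSeparated (Red.bc p G).hom := inferInstanceAs (IsSeparated (pullback.snd G.hom p))
  haveI hlfp : LocallyOfFinitePresentation (Red.bc p G).hom :=
    inferInstanceAs (LocallyOfFinitePresentation (pullback.snd G.hom p))
  obtain ⟨O, hO, hmem, hle, -⟩ := MultEq.exists_locus (i := i₀) (i' := i₁) (Or.inr hlfp)
    (DescHom.isMultTypeFT_bc hH' _) (DescHom.isMultTypeFT_bc hH' _) (central_iP π j' hc _ _ _)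
  let δ : S' ⟶ P := pullback.lift (𝟙 S') (𝟙 S') rfl
  have hδ : ∀ a : S', δ a ∈ O := fun a => by
    have e : δ ≫ pullback.fst π π = δ ≫ pullback.snd π π := by rw [pullback.lift_fst, pullback.lift_snd]
    exact (hmem _).2 ⟨MultEq.le_residue_of_le (le_of_eq π j' _ _ p rfl pullback.condition.symm δ e) a,
      MultEq.le_residue_of_le (le_of_eq π j' _ _ p pullback.condition.symm rfl δ e.symm) a⟩
  have htop : O = ⊤ := eq_top_of_diag π hconn O hO hδ
  haveI : IsIso O.ι := by rw [htop]; exact (Scheme.topIso P).isIso_hom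
  have := hle.comp (inv O.ι)
  rwa [IsIso.inv_hom_id] at this

/-- A point of the subgroup over one lift of a point of the base gives one over any other lift, with the same image. -/
theorem swap (hH' : SGA3x.IsMultTypeFT H') (hc : MultLift.Central j')
    (hconn : ∀ s : S, ConnectedSpace ↥(pullback π (Red.geomPt s)))
    {T : Scheme.{u}} (x₀ x₁ : T ⟶ S') (hx : x₀ ≫ π = x₁ ≫ π) (v : T ⟶ H'.left) (hv : v ≫ H'.hom = x₀) :
    ∃ v' : T ⟶ H'.left, v' ≫ H'.hom = x₁ ∧
      v' ≫ j'.left ≫ pullback.fst G.hom π = v ≫ j'.left ≫ pullback.fst G.hom π := by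
  let l : T ⟶ pullback π π := pullback.lift x₀ x₁ hx
  let Y : Over (pullback π π) := Over.mk l
  let y : Y ⟶ Red.bc (pullback.fst π π) H' := Over.homMk (pullback.lift v l (by rw [hv, pullback.lift_fst]))
    (pullback.lift_snd _ _ _)
  obtain ⟨y', hy'⟩ := le_double π j' hH' hc hconn Y l (Category.comp_id _) y
  refine ⟨y'.left ≫ pullback.fst H'.hom (pullback.snd π π), ?_, ?_⟩
  · have h1 : y'.left ≫ pullback.snd H'.hom (pullback.snd π π) = l := Over.w y'
    rw [Category.assoc, pullback.condition, reassoc_of% h1, pullback.lift_snd]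
  · have h1 := congrArg (fun w => CommaMorphism.left w ≫ pullback.fst G.hom (pullback.fst π π ≫ π)) hy'
    simp only [Over.comp_left, Category.assoc, iP_fst] at h1
    rw [Category.assoc]
    refine h1.trans ?_
    show pullback.lift v l _ ≫ _ = _
    rw [pullback.lift_fst_assoc]

end Groth.Agent.SubDesc
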