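import Groth.Agent.DescHomLib.Main

/-!
A clopen of `S' ×_S S'` containing the diagonal is everything when the geometric fibres of `S' ⟶ S` are connected.
-/

set_option autoImplicit false
set_option backward.isDefEq.respectTransparency false

noncomputable section

universe u

open CategoryTheory CategoryTheory.Limits AlgebraicGeometry

namespace Groth.Agent.SubDesc

theorem eq_top_of_diag {S S' : Scheme.{u}} (π : S' ⟶ S)
    (hconn : ∀ s : S, ConnectedSpace ↥(pullback π (Red.geomPt s))) (O : (pullback π π).Opens)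
    (hO : IsClosed (O : Set ↥(pullback π π)))
    (hδ : ∀ a : S', (pullback.lift (𝟙 S') (𝟙 S') rfl : S' ⟶ pullback π π) a ∈ O) : O = ⊤ := by
  let P := pullback π π
  let p : P ⟶ S := pullback.fst π π ≫ π
  let δ : S' ⟶ P := pullback.lift (𝟙 S') (𝟙 S') rfl
  refine TopologicalSpace.Opens.ext (Set.eq_univ_of_forall fun z => ?_)
  let s : S := p z
  let Ω : Type u := AlgebraicClosure (S.residueField s)
  let XΩ := pullback π (Red.geomPt s)
  haveI := hconn s
  haveI hgc : GeometricallyConnected (pullback.snd π (Red.geomPt s)) :=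
    SweepSix.GeomConn.gc_of_isAlgClosed (k := Ω) (pullback.snd π (Red.geomPt s))
  haveI : Subsingleton (Spec (CommRingCat.of Ω)) := inferInstanceAs (Subsingleton (PrimeSpectrum Ω))
  haveI : UniversallyOpen (pullback.snd π (Red.geomPt s)) := inferInstance
  let PΩ := pullback (pullback.snd π (Red.geomPt s)) (pullback.snd π (Red.geomPt s))
  haveI : ConnectedSpace PΩ := inferInstance
  let c : PΩ ⟶ P := pullback.lift (pullback.fst _ _ ≫ pullback.fst _ _) (pullback.snd _ _ ≫ pullback.fst _ _) (by
    rw [Category.assoc, Category.assoc, pullback.condition, pullback.condition_assoc])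
  have hclopen : IsClopen (c ⁻¹' (O : Set P)) := ⟨hO.preimage c.continuous, O.2.preimage c.continuous⟩
  obtain ⟨x₀⟩ : Nonempty XΩ := inferInstance
  let dΩ : XΩ ⟶ PΩ := pullback.lift (𝟙 _) (𝟙 _) rfl
  have hd : dΩ ≫ c = pullback.fst π (Red.geomPt s) ≫ δ := by
    refine pullback.hom_ext ?_ ?_ <;> (simp [dΩ, c, δ, PΩ, XΩ, P]; exact Category.id_comp _)
  have hd₀ : dΩ x₀ ∈ c ⁻¹' (O : Set P) := by
    show c (dΩ x₀) ∈ O
    rw [← Scheme.Hom.comp_apply, hd, Scheme.Hom.comp_apply]
    exact hδ _
  have huniv := hclopen.eq_univ ⟨_, hd₀⟩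
  have sq : ∀ y : P, p y = s → y ∈ Set.range c := by
    intro y hy
    let e : pullback p (Red.geomPt s) ⟶ PΩ := pullback.lift
      (pullback.lift (pullback.fst _ _ ≫ pullback.fst π π) (pullback.snd _ _) (by
        rw [Category.assoc]; exact pullback.condition))
      (pullback.lift (pullback.fst _ _ ≫ pullback.snd π π) (pullback.snd _ _) (by
        rw [Category.assoc, ← pullback.condition (f := π) (g := π)]; exact pullback.condition))
      (by rw [pullback.lift_snd, pullback.lift_snd])
    have he : e ≫ c = pullback.fst p (Red.geomPt s) := by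
      refine pullback.hom_ext ?_ ?_ <;> simp [e, c, PΩ, P, p]
    obtain ⟨w, hw, -⟩ := Scheme.Pullback.exists_preimage_pullback (f := p) (g := Red.geomPt s) y
      (IsLocalRing.closedPoint Ω) (by
        rw [hy]
        exact (Scheme.fromSpecResidueField_apply _ _).symm)
    exact ⟨e w, by rw [← Scheme.Hom.comp_apply, he, hw]⟩
  obtain ⟨b, hb⟩ := sq z rfl
  rw [← hb]
  have : b ∈ c ⁻¹' (O : Set P) := huniv ▸ trivial
  exact this

end Groth.Agent.SubDesc
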